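import Groth.Agent.EtAlgLib.Weakly
import Groth.Agent.S1996
import Mathlib

/-!
# Weakly étale algebras over a field

Over a field, weakly étale algebras are absolutely flat, their quotients and subalgebras are weakly
étale, and an algebra is weakly étale exactly when its finitely generated subalgebras are étale.
-/

set_option autoImplicit false
set_option linter.style.haveILetI false

universe u

open TensorProduct

namespace Groth.Agent.WEtaleField

variable {K : Type u} [Field K] {B C L : Type u} [CommRing B] [Algebra K B] [CommRing C]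
  [Algebra K C]

section

variable (K) [Algebra.WeaklyEtale K B]
include K

theorem flat_module (N : Type u) [AddCommGroup N] [Module B N] [Module K N] [IsScalarTower K B N] :
    Module.Flat B N :=
  Groth.Agent.EtAlgLib.flat_of_flat_lmul K (Algebra.WeaklyEtale.flat_lmul' K B) N

theorem exists_eq_sq_mul (x : B) : ∃ c, x = c * x * x := by
  haveI := flat_module K (B := B) (B ⧸ Ideal.span {x})
  obtain ⟨k, hk, hak⟩ := Groth.Agent.EtAlgLib.exists_eq_mul_of_flat
    (A := B) (B := B ⧸ Ideal.span {x}) Ideal.Quotient.mk_surjective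
    (Ideal.Quotient.eq_zero_iff_mem.2 (Ideal.mem_span_singleton_self x))
  obtain ⟨c, rfl⟩ := Ideal.mem_span_singleton'.1 (Ideal.Quotient.eq_zero_iff_mem.1 hk)
  exact ⟨c, hak⟩

theorem isReduced : IsReduced B :=
  (isReduced_iff_pow_one_lt 2 one_lt_two).2 fun x hx => by
    obtain ⟨c, hc⟩ := exists_eq_sq_mul K x
    rw [hc, mul_assoc, ← pow_two, hx, mul_zero]

theorem isMaximal_of_isPrime (P : Ideal B) [hP : P.IsPrime] : P.IsMaximal := by
  refine Ideal.isMaximal_iff.2 ⟨hP.one_notMem, fun J a hPJ ha haJ => ?_⟩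
  obtain ⟨c, hc⟩ := exists_eq_sq_mul K a
  have : a * (1 - c * a) ∈ P := by
    rw [show a * (1 - c * a) = 0 by linear_combination hc]
    exact P.zero_mem
  have h1 := J.add_mem (hPJ ((hP.mem_or_mem this).resolve_left ha)) (J.mul_mem_left c haJ)
  rwa [sub_add_cancel] at h1

theorem isField_of_idempotents [Nontrivial B] (h : ∀ e : B, IsIdempotentElem e → e = 0 ∨ e = 1) :
    IsField B := by
  refine ⟨exists_pair_ne B, mul_comm, fun {a} ha => ?_⟩
  obtain ⟨c, hc⟩ := exists_eq_sq_mul K a
  rcases h (c * a) (by rw [IsIdempotentElem]; linear_combination -c * hc) with h0 | h1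
  · exact absurd (by rw [hc, h0, zero_mul]) ha
  · exact ⟨c, by rw [mul_comm, h1]⟩

theorem of_surjective (f : B →ₐ[K] C) (hf : Function.Surjective f) : Algebra.WeaklyEtale K C := by
  refine ⟨inferInstance, ?_⟩
  let m : B ⊗[K] B →ₐ[K] C ⊗[K] C := Algebra.TensorProduct.map f f
  have hm : Function.Surjective m := TensorProduct.map_surjective hf hf
  have hcomp : (Algebra.TensorProduct.lmul' K (S := C)).comp m =
      f.comp (Algebra.TensorProduct.lmul' K (S := B)) := by
    apply Algebra.TensorProduct.ext'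
    intro x y
    simp [m]
  have hfl : f.toRingHom.Flat := by
    letI := f.toRingHom.toAlgebra
    haveI : IsScalarTower K B C := IsScalarTower.of_algebraMap_eq fun r => (f.commutes r).symm
    exact flat_module K (B := B) C
  have h : (f.toRingHom.comp (Algebra.TensorProduct.lmul' K (S := B)).toRingHom).Flat :=
    RingHom.Flat.comp (Algebra.WeaklyEtale.flat_lmul' K B) hfl
  rw [show f.toRingHom.comp (Algebra.TensorProduct.lmul' K (S := B)).toRingHom =
    (Algebra.TensorProduct.lmul' K (S := C)).toRingHom.comp m.toRingHom from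
    (congrArg AlgHom.toRingHom hcomp).symm] at h
  exact Groth.Agent.EtAlgLib.flat_of_comp_surjective hm h

theorem formallyUnramified : Algebra.FormallyUnramified K B := by
  refine ⟨(Ideal.cotangent_subsingleton_iff _).2 (le_antisymm Ideal.mul_le_left fun z hz => ?_)⟩
  letI : Algebra (B ⊗[K] B) B := (Algebra.TensorProduct.lmul' K (S := B)).toRingHom.toAlgebra
  haveI : Module.Flat (B ⊗[K] B) B := Algebra.WeaklyEtale.flat_lmul' K B
  obtain ⟨k, hk, hzk⟩ := Groth.Agent.EtAlgLib.exists_eq_mul_of_flat (A := B ⊗[K] B) (B := B)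
    (fun b => ⟨b ⊗ₜ 1, by simp [RingHom.algebraMap_toAlgebra]⟩) (a := z) hz
  rw [hzk]
  exact Ideal.mul_mem_mul hk hz

end

theorem intermediateField_weaklyEtale {L : Type u} [Field L] [Algebra K L] [Algebra.WeaklyEtale K L]
    (F : IntermediateField K L) : Algebra.WeaklyEtale K F :=
  Groth.Agent.S1996.result K F L

theorem isSeparable_field {L : Type u} [Field L] [Algebra K L] [Algebra.WeaklyEtale K L] :
    Algebra.IsSeparable K L := by
  refine ⟨fun x => ?_⟩
  obtain ⟨F, hF, hx⟩ : ∃ F : IntermediateField K L, F.FG ∧ x ∈ F :=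
    ⟨IntermediateField.adjoin K {x}, IntermediateField.fg_adjoin_of_finite (Set.finite_singleton x),
      IntermediateField.mem_adjoin_simple_self K x⟩
  haveI := intermediateField_weaklyEtale (K := K) F
  haveI : Algebra.EssFiniteType K F := IntermediateField.essFiniteType_iff.2 hF
  haveI := formallyUnramified K (B := F)
  haveI : Algebra.IsSeparable K F := Algebra.FormallyUnramified.isSeparable K F
  exact IsSeparable.map (x := (⟨x, hx⟩ : F)) F.val F.val.toRingHom.injective
    (Algebra.IsSeparable.isSeparable K _)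

theorem isSeparable_map [Algebra.WeaklyEtale K B] {L : Type u} [Field L] [Algebra K L]
    (ψ : B →ₐ[K] L) (b : B) : IsSeparable K (ψ b) := by
  haveI : (RingHom.ker ψ).IsPrime := RingHom.ker_isPrime _
  haveI := isMaximal_of_isPrime K (RingHom.ker ψ)
  letI : Field (B ⧸ RingHom.ker ψ) := Ideal.Quotient.field _
  haveI : Algebra.WeaklyEtale K (B ⧸ RingHom.ker ψ) :=
    of_surjective K (Ideal.Quotient.mkₐ K _) (Ideal.Quotient.mkₐ_surjective K _)
  haveI := isSeparable_field (K := K) (L := B ⧸ RingHom.ker ψ)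
  let g : B ⧸ RingHom.ker ψ →ₐ[K] L := Ideal.Quotient.liftₐ (RingHom.ker ψ) ψ fun _ h => h
  have hg : Function.Injective g := g.toRingHom.injective
  exact IsSeparable.map (x := Ideal.Quotient.mk (RingHom.ker ψ) b) g hg
    (Algebra.IsSeparable.isSeparable K _)

theorem etale_of_injective [Algebra.WeaklyEtale K B] {S : Type u} [CommRing S] [Algebra K S]
    [Algebra.FiniteType K S] (f : S →ₐ[K] B) (hf : Function.Injective f) : Algebra.Etale K S := by
  haveI := isReduced K (B := B)
  haveI : IsReduced S := isReduced_of_injective f hf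
  haveI : IsNoetherianRing S := Algebra.FiniteType.isNoetherianRing K S
  have key : ∀ P ∈ minimalPrimes S, P.IsMaximal ∧ ∀ a : S ⧸ P, IsSeparable K a := by
    intro P hP
    haveI : P.IsPrime := hP.isPrime
    obtain ⟨Q, hQ, hQP⟩ := Ideal.exists_comap_eq_of_mem_minimalPrimes_of_injective (f := f.toRingHom) hf P hP
    haveI := hQ
    haveI := isMaximal_of_isPrime K Q
    letI : Field (B ⧸ Q) := Ideal.Quotient.field _
    haveI : Algebra.WeaklyEtale K (B ⧸ Q) :=
      of_surjective K (Ideal.Quotient.mkₐ K _) (Ideal.Quotient.mkₐ_surjective K _)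
    haveI := isSeparable_field (K := K) (L := B ⧸ Q)
    let g : S ⧸ P →ₐ[K] B ⧸ Q :=
      Ideal.Quotient.liftₐ P ((Ideal.Quotient.mkₐ K Q).comp f) fun a ha =>
        Ideal.Quotient.eq_zero_iff_mem.2 (by rwa [← hQP] at ha)
    have hg : Function.Injective g := by
      refine (injective_iff_map_eq_zero g).2 fun a ha => ?_
      obtain ⟨a, rfl⟩ := Ideal.Quotient.mk_surjective a
      refine Ideal.Quotient.eq_zero_iff_mem.2 ?_
      have h1 : Ideal.Quotient.mk Q (f a) = 0 := ha
      have h2 : f a ∈ Q := Ideal.Quotient.eq_zero_iff_mem.1 h1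
      rw [← hQP]
      exact h2
    have hsep : ∀ a : S ⧸ P, IsSeparable K a := fun a =>
      (show IsSeparable K a ↔ IsSeparable K (g a) by
        simp only [IsSeparable, minpoly.algHom_eq g hg]).2 (Algebra.IsSeparable.isSeparable K (g a))
    haveI : Algebra.IsIntegral K (S ⧸ P) := ⟨fun a => (hsep a).isIntegral⟩
    exact ⟨Ideal.Quotient.maximal_of_isField _
      (isField_of_isIntegral_of_isField' (R := K) (Semifield.toIsField K)), hsep⟩
  have hprime : ∀ P : Ideal S, P.IsPrime → P.IsMaximal ∧ ∀ a : S ⧸ P, IsSeparable K a := by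
    intro P hP
    obtain ⟨P₀, hP₀, hle⟩ := Ideal.exists_minimalPrimes_le (bot_le : (⊥ : Ideal S) ≤ P)
    have h := key P₀ hP₀
    obtain rfl : P₀ = P := h.1.eq_of_le hP.ne_top hle
    exact h
  haveI : Ring.KrullDimLE 0 S := Ring.krullDimLE_zero_iff.2 fun P hP => (hprime P hP).1
  haveI : IsArtinianRing S := isArtinianRing_iff_krullDimLE_zero.2 inferInstance
  haveI : ∀ I : MaximalSpectrum S, Algebra.FormallyEtale K (S ⧸ I.asIdeal) := fun I => by
    letI : Field (S ⧸ I.asIdeal) := Ideal.Quotient.field _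
    haveI : Algebra.IsSeparable K (S ⧸ I.asIdeal) := ⟨(hprime _ I.isMaximal.isPrime).2⟩
    exact Algebra.FormallyEtale.of_isSeparable K _
  haveI : Algebra.FormallyEtale K (Π I : MaximalSpectrum S, S ⧸ I.asIdeal) :=
    (Algebra.FormallyEtale.pi_iff _).2 this
  haveI : Algebra.FormallyEtale K S :=
    Algebra.FormallyEtale.of_equiv ((IsArtinianRing.equivPi S).restrictScalars K).symm
  exact { finitePresentation := Algebra.FinitePresentation.of_finiteType.1 inferInstance }

theorem of_forall_fg_etale (h : ∀ S : Subalgebra K B, S.FG → Algebra.Etale K S) :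
    Algebra.WeaklyEtale K B := by
  classical
  refine ⟨inferInstance, ?_⟩
  let μ := Algebra.TensorProduct.lmul' K (S := B)
  let I : Ideal (B ⊗[K] B) := RingHom.ker μ.toRingHom
  have hpure : ∀ z ∈ I, ∃ k ∈ I, z = k * z := by
    intro z hz
    obtain ⟨s, hs⟩ := TensorProduct.exists_finset z
    let S := Algebra.adjoin K (((s.image Prod.fst ∪ s.image Prod.snd : Finset B) : Set B))
    haveI := h S (Subalgebra.fg_adjoin_finset _)
    let m : S ⊗[K] S →ₐ[K] B ⊗[K] B := Algebra.TensorProduct.map S.val S.val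
    obtain ⟨w, hw⟩ : z ∈ m.range := by
      rw [hs]
      refine sum_mem fun i hi => ?_
      exact ⟨(⟨i.1, Algebra.subset_adjoin (by simpa using Or.inl ⟨i.2, hi⟩)⟩ : S) ⊗ₜ
        (⟨i.2, Algebra.subset_adjoin (by simpa using Or.inr ⟨i.1, hi⟩)⟩ : S), by simp [m]⟩
    have hμ : ∀ w : S ⊗[K] S, μ (m w) = S.val (Algebra.TensorProduct.lmul' K (S := S) w) :=
      fun w => AlgHom.congr_fun (show μ.comp m = S.val.comp (Algebra.TensorProduct.lmul' K (S := S)) by
        apply Algebra.TensorProduct.ext'
        intro x y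
        simp [μ, m]) w
    have hw0 : Algebra.TensorProduct.lmul' K (S := S) w = 0 := by
      apply Subtype.val_injective
      change S.val _ = S.val 0
      rw [← hμ, show m w = z from hw, map_zero]
      exact hz
    letI : Algebra (S ⊗[K] S) S := (Algebra.TensorProduct.lmul' K (S := S)).toRingHom.toAlgebra
    haveI : Module.Flat (S ⊗[K] S) S := Algebra.WeaklyEtale.flat_lmul' K S
    obtain ⟨k, hk, hwk⟩ := Groth.Agent.EtAlgLib.exists_eq_mul_of_flat (A := S ⊗[K] S) (B := S)
      (fun b => ⟨b ⊗ₜ 1, by simp [RingHom.algebraMap_toAlgebra]⟩) (a := w) hw0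
    refine ⟨m k, ?_, ?_⟩
    · show μ (m k) = 0
      rw [hμ, show Algebra.TensorProduct.lmul' K (S := S) k = 0 from hk, map_zero]
    · rw [← show m w = z from hw, ← map_mul, ← hwk]
  haveI : I.Pure := Ideal.Pure.of_inf_eq_mul I fun J _ => le_antisymm (fun x ⟨hxI, hxJ⟩ => by
    obtain ⟨k, hk, hxk⟩ := hpure x hxI
    rw [hxk]
    exact Ideal.mul_mem_mul hk hxJ) Ideal.mul_le_inf
  have hμs : Function.Surjective μ := fun b => ⟨b ⊗ₜ 1, by simp [μ]⟩
  have h1 : (Ideal.Quotient.mk I).Flat := by
    rw [← Ideal.Quotient.algebraMap_eq]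
    exact RingHom.flat_algebraMap_iff.2 ‹I.Pure›
  exact RingHom.Flat.comp h1 (.of_bijective (RingHom.quotientKerEquivOfSurjective hμs).bijective)

theorem of_injective [Algebra.WeaklyEtale K B] (f : C →ₐ[K] B) (hf : Function.Injective f) :
    Algebra.WeaklyEtale K C := by
  refine of_forall_fg_etale fun S hS => ?_
  haveI := S.fg_iff_finiteType.1 hS
  exact etale_of_injective (f.comp S.val) (hf.comp Subtype.val_injective)

theorem range_weaklyEtale [Algebra.WeaklyEtale K B] (f : B →ₐ[K] C) :
    Algebra.WeaklyEtale K f.range :=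
  of_surjective K f.rangeRestrict f.rangeRestrict_surjective

theorem sup_weaklyEtale (S T : Subalgebra K C) [Algebra.WeaklyEtale K S] [Algebra.WeaklyEtale K T] :
    Algebra.WeaklyEtale K ↥(S ⊔ T) := by
  haveI : Algebra.WeaklyEtale K (S ⊗[K] T) := Algebra.WeaklyEtale.trans K S (S ⊗[K] T)
  have := range_weaklyEtale (Algebra.TensorProduct.productMap S.val T.val)
  rwa [Algebra.TensorProduct.productMap_range, Subalgebra.range_val, Subalgebra.range_val] at this

theorem bot_weaklyEtale : Algebra.WeaklyEtale K (⊥ : Subalgebra K C) :=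
  of_surjective K (Algebra.ofId K _) fun x => by
    obtain ⟨r, hr⟩ := Algebra.mem_bot.1 x.2
    exact ⟨r, Subtype.ext hr⟩

theorem finsetSup_weaklyEtale {ι : Type*} (s : Finset ι) (S : ι → Subalgebra K C)
    (h : ∀ i ∈ s, Algebra.WeaklyEtale K (S i)) : Algebra.WeaklyEtale K ↥(s.sup S) := by
  classical
  induction s using Finset.induction with
  | empty => rw [Finset.sup_empty]; exact bot_weaklyEtale
  | insert i s hi ih =>
    rw [Finset.sup_insert]
    haveI := h i (Finset.mem_insert_self i s)
    haveI := ih fun j hj => h j (Finset.mem_insert_of_mem hj)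
    exact sup_weaklyEtale (S i) (s.sup S)

theorem weaklyEtale_sSup :
    Algebra.WeaklyEtale K ↥(sSup {S : Subalgebra K C | Algebra.WeaklyEtale K S}) := by
  classical
  let P : Set (Subalgebra K C) := {S | Algebra.WeaklyEtale K S}
  have hdir : Directed (· ≤ ·) (fun S : P => (S : Subalgebra K C)) := fun S T =>
    haveI : Algebra.WeaklyEtale K (S : Subalgebra K C) := S.2
    haveI : Algebra.WeaklyEtale K (T : Subalgebra K C) := T.2
    ⟨⟨_, sup_weaklyEtale (S : Subalgebra K C) (T : Subalgebra K C)⟩, le_sup_left, le_sup_right⟩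
  haveI : Nonempty P := ⟨⟨⊥, bot_weaklyEtale⟩⟩
  have hmem : ∀ x : C, x ∈ sSup P → ∃ S ∈ P, x ∈ S := by
    intro x hx
    rw [sSup_eq_iSup', ← SetLike.mem_coe, Subalgebra.coe_iSup_of_directed hdir, Set.mem_iUnion] at hx
    obtain ⟨S, hS⟩ := hx
    exact ⟨S, S.2, hS⟩
  refine of_forall_fg_etale fun U hU => ?_
  haveI := U.fg_iff_finiteType.1 hU
  obtain ⟨t, rfl⟩ := hU
  choose V hV hxV using fun x : ↥(sSup P) => hmem x x.2
  let M := t.sup V
  haveI : Algebra.WeaklyEtale K M := finsetSup_weaklyEtale t V fun i _ => hV i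
  have hle : (Algebra.adjoin K (t : Set ↥(sSup P))).map (sSup P).val ≤ M := by
    rw [AlgHom.map_adjoin, Algebra.adjoin_le_iff]
    rintro _ ⟨x, hx, rfl⟩
    exact Finset.le_sup (f := V) hx (hxV x)
  let f : Algebra.adjoin K (t : Set ↥(sSup P)) →ₐ[K] M :=
    ((sSup P).val.comp (Algebra.adjoin K (t : Set ↥(sSup P))).val).codRestrict M
      fun x => hle ⟨x.1, x.2, rfl⟩
  exact etale_of_injective f fun a b hab =>
    Subtype.ext (Subtype.ext (congrArg (fun y : M => (y : C)) hab))

end Groth.Agent.WEtaleField
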