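import Groth.Agent.WEtaleField.Basic
import Groth.Prelude.Def_EtAlgD

/-!
# The largest weakly étale subalgebra commutes with extension of the base field
-/

set_option autoImplicit false
set_option linter.style.haveILetI false

universe u

open TensorProduct

namespace Groth.Agent.WEtaleField

variable {K : Type u} [Field K] {A : Type u} [CommRing A] [Algebra K A]

/-- The coordinate of an element of a tensor product along a functional. -/
noncomputable def coordMap {L : Type u} [AddCommGroup L] [Module K L] (m : Module.Dual K L) :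
    L ⊗[K] A →ₗ[K] A :=
  (TensorProduct.lid K A).toLinearMap.comp (m.rTensor A)

@[simp]
theorem coordMap_tmul {L : Type u} [AddCommGroup L] [Module K L] (m : Module.Dual K L) (c : L) (a : A) :
    coordMap m (c ⊗ₜ a) = m c • a := by
  simp [coordMap]

theorem mem_range_of_coordMap_mem {L : Type u} [AddCommGroup L] [Module K L] (N : Submodule K A)
    (x : L ⊗[K] A) (h : ∀ m : Module.Dual K L, coordMap m x ∈ N) :
    x ∈ LinearMap.range (N.subtype.lTensor L) := by
  rw [← lTensor_mkQ, LinearMap.mem_ker]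
  let b := Module.Free.chooseBasis K L
  apply (TensorProduct.equivFinsuppOfBasisLeft (N := A ⧸ N) b).injective
  rw [map_zero]
  ext i
  rw [TensorProduct.equivFinsuppOfBasisLeft_apply, Finsupp.zero_apply]
  have key : ∀ y : L ⊗[K] A, TensorProduct.lid K (A ⧸ N) ((b.coord i).rTensor _ (N.mkQ.lTensor L y)) =
      N.mkQ (coordMap (b.coord i) y) := fun y => by
    induction y with
    | zero => simp
    | add p q hp hq => simp only [map_add, hp, hq]
    | tmul c a => simp
  rw [key]
  exact (Submodule.Quotient.mk_eq_zero N).2 (h _)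

variable (K A) in
/-- The `L`-subalgebra coming from the largest weakly étale subalgebra. -/
noncomputable abbrev baseSub (L : Type u) [CommRing L] [Algebra K L] : Subalgebra L (L ⊗[K] A) :=
  Algebra.adjoin L ((Algebra.TensorProduct.includeRight : A →ₐ[K] L ⊗[K] A) ''
    (EtAlgD.maxWeaklyEtale K A : Set A))

theorem le_max (S : Subalgebra K A) [h : Algebra.WeaklyEtale K S] : S ≤ EtAlgD.maxWeaklyEtale K A :=
  le_sSup h

theorem max_weaklyEtale : Algebra.WeaklyEtale K ↥(EtAlgD.maxWeaklyEtale K A) :=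
  weaklyEtale_sSup

theorem map_max_le {C : Type u} [CommRing C] [Algebra K C] (f : A →ₐ[K] C) :
    (EtAlgD.maxWeaklyEtale K A).map f ≤ EtAlgD.maxWeaklyEtale K C := by
  haveI := max_weaklyEtale (K := K) (A := A)
  haveI : Algebra.WeaklyEtale K ↥((EtAlgD.maxWeaklyEtale K A).map f) := by
    have := range_weaklyEtale (f.comp (EtAlgD.maxWeaklyEtale K A).val)
    rwa [AlgHom.range_comp, Subalgebra.range_val] at this
  exact le_max _

theorem idem_mem_max {e : A} (he : IsIdempotentElem e) : e ∈ EtAlgD.maxWeaklyEtale K A := by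
  haveI : ∀ i : Fin 2, Algebra.FormallyEtale K ((fun _ => K) i) := fun _ => inferInstance
  haveI : Algebra.FormallyEtale K (Fin 2 → K) := (Algebra.FormallyEtale.pi_iff _).2 ‹_›
  haveI : Algebra.Etale K (Fin 2 → K) :=
    { finitePresentation := Algebra.FinitePresentation.of_finiteType.1 inferInstance }
  let t : (Fin 2 → K) →ₐ[K] A := AlgHom.ofLinearMap
    ((LinearMap.proj 0).smulRight e + (LinearMap.proj 1).smulRight (1 - e))
    (by simp) (fun x y => by
      simp only [LinearMap.add_apply, LinearMap.smulRight_apply, LinearMap.proj_apply,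
        Pi.mul_apply, Algebra.smul_def, map_mul]
      have h1 : e * e = e := he
      linear_combination (-(algebraMap K A (x 0) * algebraMap K A (y 0) + algebraMap K A (x 1) * algebraMap K A (y 1)
        - algebraMap K A (x 0) * algebraMap K A (y 1) - algebraMap K A (x 1) * algebraMap K A (y 0))) * h1)
  haveI := range_weaklyEtale t
  exact le_max t.range ⟨Pi.single 0 1, by simp [t]⟩

variable (K A) in
theorem includeRight_mem (L : Type u) [CommRing L] [Algebra K L] (c : L) {a : A}
    (ha : a ∈ EtAlgD.maxWeaklyEtale K A) : c ⊗ₜ a ∈ baseSub K A L := by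
  have : c ⊗ₜ[K] a = c • ((1 : L) ⊗ₜ[K] a) := by rw [TensorProduct.smul_tmul', smul_eq_mul, mul_one]
  rw [this]
  exact Subalgebra.smul_mem _ (Algebra.subset_adjoin (Set.mem_image_of_mem Algebra.TensorProduct.includeRight ha)) c

theorem mem_baseSub_of_mem_range {L : Type u} [CommRing L] [Algebra K L] {x : L ⊗[K] A}
    (h : x ∈ LinearMap.range ((Subalgebra.toSubmodule (EtAlgD.maxWeaklyEtale K A)).subtype.lTensor L)) :
    x ∈ baseSub K A L := by
  obtain ⟨y, rfl⟩ := h
  induction y with
  | zero => simp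
  | add p q hp hq => rw [map_add]; exact add_mem hp hq
  | tmul c a => simpa using includeRight_mem K A L c a.2

theorem map_mem_baseSub {L L' C : Type u} [CommRing L] [Algebra K L] [CommRing L'] [Algebra K L']
    [CommRing C] [Algebra K C] (φ : L →ₐ[K] L') (f : A →ₐ[K] C) {x : L ⊗[K] A}
    (hx : x ∈ baseSub K A L) : Algebra.TensorProduct.map φ f x ∈ baseSub K C L' := by
  induction hx using Algebra.adjoin_induction with
  | mem y hy =>
    obtain ⟨a, ha, rfl⟩ := hy
    simpa using includeRight_mem K C L' 1 (map_max_le f ⟨a, ha, rfl⟩)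
  | algebraMap r =>
    simpa using includeRight_mem K C L' (φ r) (one_mem (EtAlgD.maxWeaklyEtale K C))
  | add p q _ _ hp hq => rw [map_add]; exact add_mem hp hq
  | mul p q _ _ hp hq => rw [map_mul]; exact mul_mem hp hq

theorem coordMap_baseSub_mem {L : Type u} [CommRing L] [Algebra K L] {x : L ⊗[K] A}
    (hx : x ∈ baseSub K A L) :
    x ∈ LinearMap.range ((Subalgebra.toSubmodule (EtAlgD.maxWeaklyEtale K A)).subtype.lTensor L) := by
  let m := Algebra.TensorProduct.map (AlgHom.id L L) (EtAlgD.maxWeaklyEtale K A).val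
  have hle : baseSub K A L ≤ m.range := by
    refine Algebra.adjoin_le ?_
    rintro _ ⟨a, ha, rfl⟩
    exact ⟨(1 : L) ⊗ₜ[K] ⟨a, ha⟩, by simp [m]⟩
  obtain ⟨y, rfl⟩ := hle hx
  refine ⟨y, ?_⟩
  change _ = m y
  clear hx
  induction y using TensorProduct.induction_on with
  | zero => simp
  | add p q hp hq => rw [map_add, map_add, hp, hq]
  | tmul c a => simp [m]

/-- Idempotents over a finite Galois extension. -/
theorem idem_mem_galois (L : Type u) [Field L] [Algebra K L] [FiniteDimensional K L] [IsGalois K L]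
    {e : L ⊗[K] A} (he : IsIdempotentElem e) : e ∈ baseSub K A L := by
  let N := EtAlgD.maxWeaklyEtale L (L ⊗[K] A)
  haveI : Algebra.WeaklyEtale L N := max_weaklyEtale
  haveI : Algebra.Etale K L :=
    { finitePresentation := Algebra.FinitePresentation.of_finiteType.1 inferInstance
      formallyEtale := Algebra.FormallyEtale.of_isSeparable K L }
  haveI : Algebra.WeaklyEtale K N := Algebra.WeaklyEtale.trans K L N
  let U : Subalgebra K A := (N.restrictScalars K).comap Algebra.TensorProduct.includeRight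
  haveI : Algebra.WeaklyEtale K ↥(N.restrictScalars K) := ‹Algebra.WeaklyEtale K N›
  haveI : Algebra.WeaklyEtale K U := by
    refine of_injective
      ((Algebra.TensorProduct.includeRight.comp U.val).codRestrict (N.restrictScalars K) fun x => x.2) ?_
    intro a b hab
    exact Subtype.ext (Algebra.TensorProduct.includeRight_injective (algebraMap K L).injective
      (congrArg (fun y : N.restrictScalars K => (y : L ⊗[K] A)) hab))
  refine mem_baseSub_of_mem_range (mem_range_of_coordMap_mem _ e fun m => ?_)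
  let β := (Algebra.traceForm K L).toDual (traceForm_nondegenerate K L)
  obtain ⟨b, rfl⟩ := β.surjective m
  refine le_max U ?_
  show (1 : L) ⊗ₜ[K] coordMap (β b) e ∈ N
  have key : ∀ x : L ⊗[K] A, (1 : L) ⊗ₜ[K] coordMap (β b) x =
      ∑ σ : Gal(L/K), (σ b ⊗ₜ[K] (1 : A)) * Algebra.TensorProduct.map σ.toAlgHom (AlgHom.id K A) x := by
    intro x
    induction x with
    | zero => simp
    | add p q hp hq => simp only [map_add, TensorProduct.tmul_add, mul_add, Finset.sum_add_distrib, hp, hq]
    | tmul c a =>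
      simp only [coordMap_tmul, Algebra.TensorProduct.map_tmul, Algebra.TensorProduct.tmul_mul_tmul,
        one_mul, AlgHom.coe_id, id_eq, ← TensorProduct.sum_tmul]
      rw [← TensorProduct.smul_tmul, Algebra.smul_def, mul_one,
        show (β b) c = Algebra.trace K L (b * c) from rfl, trace_eq_sum_automorphisms]
      simp [map_mul]
  rw [key]
  refine sum_mem fun σ _ => mul_mem ?_ (idem_mem_max (he.map _))
  exact N.algebraMap_mem (σ b)

/-- Idempotents over an algebraic closure. -/
theorem idem_mem_algClosure {e : AlgebraicClosure K ⊗[K] A} (he : IsIdempotentElem e) :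
    e ∈ baseSub K A (AlgebraicClosure K) := by
  classical
  cases subsingleton_or_nontrivial A with
  | inl h =>
    haveI : Subsingleton (AlgebraicClosure K ⊗[K] A) :=
      (subsingleton_iff_zero_eq_one).1 (by
        rw [Algebra.TensorProduct.one_def, Subsingleton.elim (1 : A) 0, TensorProduct.tmul_zero])
    rw [Subsingleton.elim e 0]
    exact zero_mem _
  | inr h =>
    let κ := AlgebraicClosure K
    let S := separableClosure K κ
    obtain ⟨q, _⟩ := ExpChar.exists K
    haveI : ExpChar κ q := expChar_of_injective_algebraMap (algebraMap K κ).injective q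
    haveI : Nontrivial (κ ⊗[K] A) :=
      (Algebra.TensorProduct.includeRight_injective (R := K) (A := κ) (B := A)
        (algebraMap K κ).injective).nontrivial
    haveI : ExpChar (κ ⊗[K] A) q :=
      expChar_of_injective_algebraMap (algebraMap κ (κ ⊗[K] A)).injective q
    haveI : ExpChar S q := expChar_of_injective_algebraMap (algebraMap K S).injective q
    haveI : IsPurelyInseparable S κ := separableClosure.isPurelyInseparable K κ
    obtain ⟨s, hs⟩ := TensorProduct.exists_finset e
    choose n hn using fun c : κ => IsPurelyInseparable.pow_mem S q c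
    let M := s.sup fun i => n i.1
    have hmem : ∀ i : s, i.1.1 ^ q ^ M ∈ (algebraMap S κ).range := fun i => by
      exact ⟨(Classical.choose (hn i.1.1)) ^ q ^ (M - n i.1.1), by
        rw [map_pow, Classical.choose_spec (hn i.1.1), ← pow_mul, ← pow_add,
          Nat.add_sub_cancel' (Finset.le_sup (f := fun j => n j.1) i.2)]⟩
    choose d hd using hmem
    haveI : IsGalois K S := separableClosure.isGalois K κ
    let k' := FiniteGaloisIntermediateField.adjoin K (Set.range d)
    have hdk : ∀ i, d i ∈ k'.toIntermediateField := fun i =>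
      FiniteGaloisIntermediateField.subset_adjoin K (Set.range d) ⟨i, rfl⟩
    let φ : k' →ₐ[K] κ := S.val.comp k'.toIntermediateField.val
    let Φ := Algebra.TensorProduct.map φ (AlgHom.id K A)
    let w : k' ⊗[K] A := ∑ i : s, (⟨d i, hdk i⟩ : k') ⊗ₜ[K] (i.1.2 ^ q ^ M)
    have hw : Φ w = e := by
      have hepow : ∀ N : ℕ, 0 < N → e ^ N = e := fun N hN => he.pow_eq hN.ne'
      rw [← hepow (q ^ M) (pow_pos (expChar_pos K q) M), hs, sum_pow_char_pow, map_sum,
        ← Finset.sum_coe_sort s]
      refine Finset.sum_congr rfl fun i _ => ?_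
      rw [Algebra.TensorProduct.map_tmul, Algebra.TensorProduct.tmul_pow]
      show algebraMap S κ (d i) ⊗ₜ[K] (i.1.2 ^ q ^ M) = _
      rw [hd i]
    have hΦ : Function.Injective Φ :=
      TensorProduct.map_injective_of_flat_flat _ _ φ.toRingHom.injective Function.injective_id
    have hwi : IsIdempotentElem w := hΦ (by rw [map_mul, hw]; exact he)
    rw [← hw]
    exact map_mem_baseSub φ (AlgHom.id K A) (idem_mem_galois k' hwi)

/-- Idempotents do not grow from an algebraically closed field to a larger field. -/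
theorem exists_idem_of_isAlgClosed {κ : Type u} [Field κ] [IsAlgClosed κ] {B : Type u} [CommRing B]
    [Algebra κ B] [Algebra.FiniteType κ B] (Ω : Type u) [Field Ω] [Algebra κ Ω]
    {e : Ω ⊗[κ] B} (he : IsIdempotentElem e) :
    ∃ e₁ : B, IsIdempotentElem e₁ ∧ (1 : Ω) ⊗ₜ[κ] e₁ = e := by
  obtain ⟨ℓ, hℓ⟩ := (Algebra.linearMap κ Ω).exists_leftInverse_of_injective
    (LinearMap.ker_eq_bot.2 (algebraMap κ Ω).injective)
  have hℓ1 : ℓ 1 = 1 := by
    have := LinearMap.congr_fun hℓ 1
    simpa using this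
  let e₀ := coordMap ℓ e
  haveI : IsJacobsonRing B := isJacobsonRing_of_finiteType (A := κ)
  have hnil : ∀ x : B, (∀ m : Ideal B, m.IsMaximal → x ∈ m) → IsNilpotent x := fun x hx => by
    rw [← mem_nilradical, nilradical, Ideal.zero_eq_bot, ← IsJacobsonRing.out inferInstance (Ideal.radical_isRadical ⊥)]
    exact Ideal.mem_sInf.2 fun {m} hm => hx m hm.2
  have hχ : ∀ m : Ideal B, m.IsMaximal → ∃ (χ : B →ₐ[κ] κ) (ε : κ),
      (∀ x, χ x = 0 → x ∈ m) ∧ IsIdempotentElem ε ∧
        ∀ f : Module.Dual κ Ω, χ (coordMap f e) = ε * f 1 := by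
    intro m hm
    letI : Field (B ⧸ m) := Ideal.Quotient.field m
    haveI : Module.Finite κ (B ⧸ m) := finite_of_finite_type_of_isJacobsonRing κ (B ⧸ m)
    let i : κ ≃ₐ[κ] B ⧸ m :=
      AlgEquiv.ofBijective (Algebra.ofId κ _) IsAlgClosed.algebraMap_bijective_of_isIntegral
    let χ : B →ₐ[κ] κ := i.symm.toAlgHom.comp (Ideal.Quotient.mkₐ κ m)
    let ψ : Ω ⊗[κ] B →ₐ[κ] Ω :=
      Algebra.TensorProduct.lift (AlgHom.id κ Ω) ((Algebra.ofId κ Ω).comp χ) (fun _ _ => Commute.all _ _)
    have hψ : ∀ (f : Module.Dual κ Ω) (x : Ω ⊗[κ] B), χ (coordMap f x) = f (ψ x) := fun f x => by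
      induction x with
      | zero => simp
      | add p q hp hq => simp only [map_add, hp, hq]
      | tmul c b =>
        simp only [coordMap_tmul, map_smul, ψ, Algebra.TensorProduct.lift_tmul]
        show f c • χ b = f (c * algebraMap κ Ω (χ b))
        rw [← Algebra.commutes, ← Algebra.smul_def, map_smul, smul_eq_mul, smul_eq_mul, mul_comm]
    have hx0 : ∀ x, χ x = 0 → x ∈ m := fun x hx =>
      Ideal.Quotient.eq_zero_iff_mem.1 (i.symm.injective (hx.trans (map_zero i.symm).symm))
    rcases IsIdempotentElem.iff_eq_zero_or_one.1 (he.map ψ) with h | h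
    · exact ⟨χ, 0, hx0, IsIdempotentElem.zero, fun f => by rw [hψ, h, map_zero, zero_mul]⟩
    · exact ⟨χ, 1, hx0, IsIdempotentElem.one, fun f => by rw [hψ, h, one_mul]⟩
  have he₀ : IsNilpotent (e₀ * e₀ - e₀) := hnil _ fun m hm => by
    obtain ⟨χ, ε, hx0, hε, hf⟩ := hχ m hm
    refine hx0 _ ?_
    rw [map_sub, map_mul, hf, hℓ1, mul_one, hε.eq, sub_self]
  obtain ⟨e₁, he₁, hq⟩ := exists_isIdempotentElem_eq_of_ker_isNilpotent (Ideal.Quotient.mk (nilradical B))
    (fun x hx => by rwa [Ideal.mk_ker, mem_nilradical] at hx) (Ideal.Quotient.mk _ e₀) ⟨e₀, rfl⟩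
    (by
      rw [IsIdempotentElem, ← map_mul, Ideal.Quotient.mk_eq_mk_iff_sub_mem]
      exact mem_nilradical.2 he₀)
  refine ⟨e₁, he₁, eq_of_isNilpotent_sub_of_isIdempotentElem
    (he₁.map Algebra.TensorProduct.includeRight) he ?_⟩
  have hmem : ∀ f : Module.Dual κ Ω,
      coordMap f ((1 : Ω) ⊗ₜ[κ] e₁ - e) ∈ (nilradical B).restrictScalars κ := fun f => by
    refine mem_nilradical.2 (hnil _ fun m hm => ?_)
    obtain ⟨χ, ε, hx0, hε, hf⟩ := hχ m hm
    refine hx0 _ ?_
    have h1 : χ e₁ = χ e₀ := by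
      have hsub : IsNilpotent (e₁ - e₀) := mem_nilradical.1 (Ideal.Quotient.eq.1 hq)
      exact sub_eq_zero.1 (by rw [← map_sub]; exact (hsub.map χ).eq_zero)
    rw [map_sub, map_sub, coordMap_tmul, map_smul, h1, hf, hf, hℓ1, mul_one, smul_eq_mul, mul_comm,
      sub_self]
  obtain ⟨y, hy⟩ := mem_range_of_coordMap_mem _ _ hmem
  rw [← hy]
  clear hy
  induction y with
  | zero => simp
  | add p q hp hq => rw [map_add]; exact (Commute.all _ _).isNilpotent_add hp hq
  | tmul c b =>
    show IsNilpotent (c ⊗ₜ[κ] (b : B))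
    have : IsNilpotent ((1 : Ω) ⊗ₜ[κ] (b : B)) :=
      (mem_nilradical.1 b.2).map (Algebra.TensorProduct.includeRight : B →ₐ[κ] Ω ⊗[κ] B)
    have h2 := (Commute.all (c ⊗ₜ[κ] (1 : B)) ((1 : Ω) ⊗ₜ[κ] (b : B))).isNilpotent_mul_left this
    rwa [Algebra.TensorProduct.tmul_mul_tmul, mul_one, one_mul] at h2

/-- Idempotents of `Ω ⊗ A` for an algebraically closed field `Ω`. -/
theorem idem_mem_isAlgClosed (Ω : Type u) [Field Ω] [IsAlgClosed Ω] [Algebra K Ω]
    {e : Ω ⊗[K] A} (he : IsIdempotentElem e) : e ∈ baseSub K A Ω := by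
  classical
  obtain ⟨s, hs⟩ := TensorProduct.exists_finset e
  let A₀ := Algebra.adjoin K ((s.image Prod.snd : Finset A) : Set A)
  haveI : Algebra.FiniteType K A₀ := A₀.fg_iff_finiteType.1 (Subalgebra.fg_adjoin_finset _)
  let ι : Ω ⊗[K] A₀ →ₐ[K] Ω ⊗[K] A := Algebra.TensorProduct.map (AlgHom.id K Ω) A₀.val
  obtain ⟨w, hw⟩ : e ∈ ι.range := by
    rw [hs]
    refine sum_mem fun i hi => ?_
    exact ⟨i.1 ⊗ₜ (⟨i.2, Algebra.subset_adjoin (Finset.mem_image_of_mem Prod.snd hi)⟩ : A₀), by simp [ι]⟩
  have hι : Function.Injective ι :=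
    TensorProduct.map_injective_of_flat_flat _ _ Function.injective_id Subtype.val_injective
  have hwi : IsIdempotentElem w := hι (by rw [map_mul, show ι w = e from hw]; exact he)
  rw [← show ι w = e from hw]
  refine map_mem_baseSub (AlgHom.id K Ω) A₀.val ?_
  let κ := AlgebraicClosure K
  let j : κ →ₐ[K] Ω := IsAlgClosed.lift
  letI : Algebra κ Ω := j.toRingHom.toAlgebra
  haveI : IsScalarTower K κ Ω := IsScalarTower.of_algebraMap_eq fun r => (j.commutes r).symm
  let E := Algebra.TensorProduct.cancelBaseChange K κ Ω Ω A₀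
  obtain ⟨e₁, he₁, hq⟩ := exists_idem_of_isAlgClosed (κ := κ) (B := κ ⊗[K] A₀) Ω (hwi.map E.symm)
  have hwe : w = Algebra.TensorProduct.map j (AlgHom.id K A₀) e₁ := by
    rw [← E.apply_symm_apply w, ← hq]
    clear hq he₁
    induction e₁ with
    | zero => simp
    | add p q hp hq => simp only [TensorProduct.tmul_add, map_add, hp, hq]
    | tmul c a => simp [E, Algebra.smul_def, RingHom.algebraMap_toAlgebra, j]
  rw [hwe]
  exact map_mem_baseSub j (AlgHom.id K A₀) (idem_mem_algClosure he₁)

/-- The largest weakly étale subalgebra after a field extension. -/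
theorem max_baseChange (L : Type u) [Field L] [Algebra K L] :
    EtAlgD.maxWeaklyEtale L (L ⊗[K] A) = baseSub K A L := by
  refine le_antisymm ?_ ?_
  swap
  · haveI := max_weaklyEtale (K := K) (A := A)
    let f : L ⊗[K] (EtAlgD.maxWeaklyEtale K A) →ₐ[L] L ⊗[K] A :=
      Algebra.TensorProduct.map (AlgHom.id L L) (EtAlgD.maxWeaklyEtale K A).val
    haveI := range_weaklyEtale f
    refine Algebra.adjoin_le ?_
    rintro _ ⟨a, ha, rfl⟩
    exact le_max f.range ⟨(1 : L) ⊗ₜ[K] ⟨a, ha⟩, by simp [f]⟩
  intro z hz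
  haveI := max_weaklyEtale (K := L) (A := L ⊗[K] A)
  let U : Subalgebra L (L ⊗[K] A) := Algebra.adjoin L {z}
  haveI : Algebra.FiniteType L U :=
    U.fg_iff_finiteType.1 (Subalgebra.fg_def.2 ⟨{z}, Set.finite_singleton z, rfl⟩)
  haveI : Algebra.Etale L U :=
    etale_of_injective (Subalgebra.inclusion (Algebra.adjoin_le (Set.singleton_subset_iff.2 hz)))
      (Subalgebra.inclusion_injective _)
  let Ω := AlgebraicClosure L
  let φ : L →ₐ[K] Ω := IsScalarTower.toAlgHom K L Ω
  let J : L ⊗[K] A →ₐ[L] Ω ⊗[K] A :=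
    Algebra.TensorProduct.map (IsScalarTower.toAlgHom L L Ω) (AlgHom.id K A)
  let g : Ω ⊗[L] U →ₐ[Ω] Ω ⊗[K] A :=
    Algebra.TensorProduct.lift (Algebra.ofId Ω _) (J.comp U.val) (fun _ _ => Commute.all _ _)
  haveI : Module.Finite L U := Algebra.FormallyUnramified.finite_of_free L U
  haveI : IsArtinianRing (Ω ⊗[L] U) := IsArtinianRing.of_finite Ω _
  haveI : IsReduced (Ω ⊗[L] U) := Algebra.FormallyUnramified.isReduced_of_field Ω _
  have hg : ∀ r, g r ∈ baseSub K A Ω := by
    intro r
    let eq := (IsArtinianRing.equivPi (Ω ⊗[L] U)).restrictScalars Ω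
    haveI := Fintype.ofFinite (MaximalSpectrum (Ω ⊗[L] U))
    classical
    have hsum : r = ∑ m : MaximalSpectrum (Ω ⊗[L] U),
        eq.symm (Pi.single m (eq r m)) := by
      apply eq.injective
      rw [map_sum]
      simp only [AlgEquiv.apply_symm_apply]
      exact (Finset.univ_sum_single (eq r)).symm
    rw [hsum, map_sum]
    refine sum_mem fun m _ => ?_
    letI : Field ((Ω ⊗[L] U) ⧸ m.asIdeal) := Ideal.Quotient.field _
    obtain ⟨c, hc⟩ := (IsAlgClosed.algebraMap_bijective_of_isIntegral
      (k := Ω) (K := (Ω ⊗[L] U) ⧸ m.asIdeal)).2 (eq r m)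
    have : eq.symm (Pi.single m (eq r m)) = c • eq.symm (Pi.single m 1) := by
      rw [← map_smul, ← Pi.single_smul, ← Algebra.algebraMap_eq_smul_one, hc]
    rw [this, map_smul]
    refine Subalgebra.smul_mem _ (idem_mem_isAlgClosed Ω ?_) c
    refine (IsIdempotentElem.map ?_ g)
    refine IsIdempotentElem.map ?_ eq.symm
    rw [IsIdempotentElem, ← Pi.single_mul, one_mul]
  have hJ : J z ∈ baseSub K A Ω := by
    have := hg ((1 : Ω) ⊗ₜ[L] ⟨z, Algebra.subset_adjoin rfl⟩)
    simpa [g, ← Algebra.TensorProduct.one_def] using this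
  refine mem_baseSub_of_mem_range ?_
  rw [← lTensor_mkQ, LinearMap.mem_ker]
  have h1 := coordMap_baseSub_mem hJ
  rw [← lTensor_mkQ, LinearMap.mem_ker] at h1
  refine Module.Flat.rTensor_preserves_injective_linearMap
    (M := A ⧸ Subalgebra.toSubmodule (EtAlgD.maxWeaklyEtale K A)) φ.toLinearMap φ.toRingHom.injective ?_
  rw [map_zero, ← h1]
  clear h1 hJ hz hg g
  clear! U
  induction z using TensorProduct.induction_on with
  | zero => simp
  | add p q hp hq => simp only [map_add] at hp hq ⊢; rw [hp, hq]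
  | tmul c a => simp [J, φ]

end Groth.Agent.WEtaleField
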